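import Groth.Agent.Coh69.AffVanish
import Groth.Agent.Coh69.Sections
import Groth.Agent.Crv77.Degree
import Groth.Agent.SubMod72.Main
import Groth.Agent.QC70.CohOps

set_option autoImplicit false
set_option backward.isDefEq.respectTransparency.types false

/-! Surjectivity on global sections along quotients by a fixed kernel. -/

noncomputable section

universe u v w

open CategoryTheory CategoryTheory.Limits AlgebraicGeometry TopologicalSpace Opposite

namespace Groth.Agent.Serre69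

/-- Dividing a short exact sequence by a subobject of the kernel. -/
lemma shortExact_quotient_by_sub {A : Type w} [Category.{v} A] [Abelian A] {T : ShortComplex A}
    (hT : T.ShortExact) {M N : A} {i : T.X₂ ⟶ M} {g : M ⟶ N} {w : i ≫ g = 0}
    (hS : (ShortComplex.mk i g w).ShortExact) :
    ∃ (j : T.X₃ ⟶ cokernel (T.f ≫ i)) (g₁ : cokernel (T.f ≫ i) ⟶ N) (w' : j ≫ g₁ = 0),
      cokernel.π (T.f ≫ i) ≫ g₁ = g ∧ (ShortComplex.mk j g₁ w').ShortExact := by
  have hf : Mono T.f := hT.mono_f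
  have hg : Epi T.g := hT.epi_g
  have hi : Mono i := hS.mono_f
  have hgS : Epi g := hS.epi_g
  set π := cokernel.π (T.f ≫ i) with hπ
  let j : T.X₃ ⟶ cokernel (T.f ≫ i) :=
    hT.exact.desc (i ≫ π) (by rw [← Category.assoc, hπ, cokernel.condition])
  have hj : T.g ≫ j = i ≫ π := hT.exact.g_desc _ _
  let g₁ : cokernel (T.f ≫ i) ⟶ N := cokernel.desc _ g (by rw [Category.assoc, w, comp_zero])
  have hg₁ : π ≫ g₁ = g := cokernel.π_desc _ _ _
  have w' : j ≫ g₁ = 0 := by
    rw [← cancel_epi T.g, comp_zero, ← Category.assoc, hj, Category.assoc, hg₁, w]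
  have hex : (ShortComplex.mk (T.f ≫ i) π (cokernel.condition _)).Exact :=
    ShortComplex.exact_of_g_is_cokernel _ (cokernelIsCokernel _)
  refine ⟨j, g₁, w', hg₁, { exact := ?_, mono_f := ?_, epi_g := ?_ }⟩
  · rw [ShortComplex.exact_iff_exact_up_to_refinements]
    intro Z x hx
    obtain ⟨Z', p, hp, y, hy⟩ := surjective_up_to_refinements_of_epi π x
    have hy0 : y ≫ g = 0 := by
      have hx' : x ≫ g₁ = 0 := hx
      rw [← hg₁, ← Category.assoc, ← hy, Category.assoc, hx', comp_zero]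
    obtain ⟨Z'', p', hp', z, hz⟩ := hS.exact.exact_up_to_refinements y hy0
    refine ⟨Z'', p' ≫ p, inferInstance, z ≫ T.g, ?_⟩
    show (p' ≫ p) ≫ x = (z ≫ T.g) ≫ j
    rw [Category.assoc z, hj, ← Category.assoc z, ← show p' ≫ y = z ≫ i from hz, Category.assoc, hy,
      Category.assoc]
  · rw [Preadditive.mono_iff_cancel_zero]
    intro Z x hx
    obtain ⟨Z', p, hp, y, hy⟩ := surjective_up_to_refinements_of_epi T.g x
    have hy0 : (y ≫ i) ≫ π = 0 := by
      have hx' : x ≫ j = 0 := hx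
      rw [Category.assoc, ← hj, ← Category.assoc, ← hy, Category.assoc, hx', comp_zero]
    obtain ⟨Z'', p', hp', z, hz⟩ := hex.exact_up_to_refinements (y ≫ i) hy0
    have hz' : p' ≫ y = z ≫ T.f := by
      rw [← cancel_mono i, Category.assoc, Category.assoc]
      exact hz
    rw [← cancel_epi (p' ≫ p), comp_zero, Category.assoc, hy, ← Category.assoc, hz', Category.assoc,
      T.zero, comp_zero]
  · show Epi g₁
    exact epi_of_epi_fac hg₁

open QC70
open Groth.Agent.Coh69 (HE hhEquiv surjective_of_subsingleton_H1)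

variable {X : Scheme.{u}}

/-- Global sections are surjective along every quotient of a quasi-coherent module by `K`. -/
def Lifts (K : X.Modules) : Prop :=
  ∀ ⦃M N : X.Modules⦄ (i : K ⟶ M) (g : M ⟶ N) (w : i ≫ g = 0),
    (ShortComplex.mk i g w).ShortExact → M.IsQuasicoherent → Function.Surjective (g.app ⊤)

lemma Lifts.of_subsingleton_H1 {K : X.Modules} (h : Subsingleton (Coh.HH X K 1)) : Lifts K := by
  intro M N i g w hS _ t
  have : Subsingleton (HE (Crv77.abComplex (ShortComplex.mk i g w)).X₁ 1 (⊤ : X.Opens)) :=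
    (hhEquiv K 1).symm.toEquiv.subsingleton
  exact surjective_of_subsingleton_H1 (Crv77.abComplex_shortExact hS) (⊤ : X.Opens) t

lemma Lifts.of_isZero {K : X.Modules} (h : IsZero K) : Lifts K := by
  intro M N i g w hS _ t
  have : Epi g := hS.epi_g
  have : Mono g := Preadditive.mono_of_cancel_zero _ fun x hx => by
    obtain ⟨Z, p, hp, y, hy⟩ := hS.exact.exact_up_to_refinements x hx
    have hy' : p ≫ x = y ≫ i := hy
    rw [← cancel_epi p, comp_zero, hy']
    exact (congrArg (y ≫ ·) (h.eq_of_src i 0)).trans comp_zero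
  have : IsIso g := isIso_of_mono_of_epi g
  refine ⟨(inv g).app ⊤ t, ?_⟩
  rw [← ConcreteCategory.comp_apply, ← Scheme.Modules.Hom.comp_app, IsIso.inv_hom_id]
  rfl

lemma Lifts.extension {T : ShortComplex X.Modules} (hT : T.ShortExact) [T.X₁.IsQuasicoherent]
    (h₁ : Lifts T.X₁) (h₃ : Lifts T.X₃) : Lifts T.X₂ := by
  intro M N i g w hS hM t
  have : Mono T.f := hT.mono_f
  have : Mono i := hS.mono_f
  obtain ⟨j, g₁, w', hg₁, hS'⟩ := shortExact_quotient_by_sub hT hS
  obtain ⟨t₁, ht₁⟩ := h₃ j g₁ w' hS' (isQuasicoherent_cokernel _) t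
  have hS₂ : (ShortComplex.mk (T.f ≫ i) (cokernel.π (T.f ≫ i)) (cokernel.condition _)).ShortExact :=
    { exact := ShortComplex.exact_of_g_is_cokernel _ (cokernelIsCokernel _)
      mono_f := (inferInstance : Mono (T.f ≫ i))
      epi_g := (inferInstance : Epi (cokernel.π (T.f ≫ i))) }
  obtain ⟨m, hm⟩ := h₁ _ _ _ hS₂ hM t₁
  refine ⟨m, ?_⟩
  rw [← ht₁, ← hm, ← hg₁, Scheme.Modules.Hom.comp_app]
  rfl

/-- A separation lemma. -/
lemma eq_of_res (M : X.Modules) {κ : Type*} {U : X.Opens} (V : κ → X.Opens) (hV : ∀ k, V k ≤ U)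
    (hU : U ≤ ⨆ k, V k) {s t : Γ(M, U)} (h : ∀ k, res M (hV k) s = res M (hV k) t) : s = t :=
  TopCat.Sheaf.eq_of_locally_eq' ⟨_, M.isSheaf⟩ V U (fun k => homOfLE (hV k)) hU s t h

lemma biproduct_qcoh_ft {X : Scheme.{u}} {n : ℕ} (M : Fin n → X.Modules)
    (h : ∀ i, Coh.IsQCoh (M i) ∧ CohB1.IsFT (M i)) :
    Coh.IsQCoh (⨁ M) ∧ CohB1.IsFT (⨁ M) :=
  biproduct_induction (fun N => Coh.IsQCoh N ∧ CohB1.IsFT N)
    (fun N hN => by
      have : Coh.IsQCoh N := isQuasicoherent_of_isZero hN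
      refine ⟨this, isFiniteType_of_finite_sections (X := X) N (κ := ↥(X.affineOpens)) (fun i => i.1)
        (IsOpenCover.mk (iSup_affineOpens_eq_top X)) (fun i => i.2) fun i => ?_⟩
      have : Subsingleton Γ(N, i.1) := subsingleton_of_forall_eq 0 fun s => by
        have e := congr((Scheme.Modules.Hom.app $((IsZero.iff_id_eq_zero N).mp hN) i.1) s)
        exact e
      infer_instance)
    (fun S hS h₁ h₃ => by
      obtain ⟨_, _⟩ := h₁
      obtain ⟨_, _⟩ := h₃
      exact ⟨isQuasicoherent_X₂ S hS, isFiniteType_X₂ S hS⟩) M h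

/-- Finitely many sections over affine opens lie in a finite type quasi-coherent submodule. -/
theorem exists_ft_sub [CompactSpace X] [QuasiSeparatedSpace X] (F : X.Modules) [F.IsQuasicoherent]
    {κ : Type*} [Finite κ] (U : κ → X.affineOpens) (s : ∀ k, Γ(F, (U k).1)) :
    ∃ (G : X.Modules) (i : G ⟶ F), Mono i ∧ G.IsQuasicoherent ∧ G.IsFiniteType ∧
      ∀ k, ∃ t, i.app (U k).1 t = s k := by
  classical
  obtain ⟨n, ⟨e⟩⟩ := Finite.exists_equiv_fin κ
  have hex : ∀ k, ∃ (G : X.Modules) (i : G ⟶ F), G.IsQuasicoherent ∧ G.IsFiniteType ∧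
      ∃ t, i.app (U k).1 t = s k := by
    intro k
    obtain ⟨Q, hQ, hQP⟩ := SubMod72.exists_extension_qcqs (U k).2.isCompact
      (SubMod72.fg_locSpan (F := F) (Set.finite_singleton (s k)))
    obtain ⟨h1, h2⟩ := SubMod72.isQuasicoherent_isFiniteType_toMod hQ
    refine ⟨SubMod72.toMod Q, SubMod72.toModι Q, h1, h2, (SubMod72.mem_iff_exists Q (s k)).mp ?_⟩
    rw [hQP (U k).1 le_rfl]
    have h := SubMod72.self_mem_locSpan (F := F) (S := {s k}) (le_refl (U k).1)
      (Set.mem_singleton _)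
    rwa [res_self] at h
  choose G i hG hGf t ht using hex
  obtain ⟨hB, hBf⟩ := biproduct_qcoh_ft (fun l => G (e.symm l)) fun l => ⟨hG _, hGf _⟩
  let φ : (⨁ fun l => G (e.symm l)) ⟶ F := biproduct.desc fun l => i (e.symm l)
  refine ⟨Abelian.image φ, Abelian.image.ι φ, inferInstance, isQuasicoherent_abelianImage φ,
    isFiniteType_of_epi (Abelian.factorThruImage φ), fun k => ?_⟩
  obtain ⟨l, rfl⟩ := e.symm.surjective k
  refine ⟨(biproduct.ι (fun l => G (e.symm l)) l ≫ Abelian.factorThruImage φ).app _ (t _), ?_⟩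
  rw [← ConcreteCategory.comp_apply, ← Scheme.Modules.Hom.comp_app, Category.assoc,
    show Abelian.factorThruImage φ ≫ Abelian.image.ι φ = φ from kernel.lift_ι _ _ _, biproduct.ι_desc]
  exact ht _

lemma exists_finite_affine_cover {U : X.Opens} (hU : IsCompact (U : Set X)) :
    ∃ (κ : Type u) (_ : Finite κ) (W : κ → X.affineOpens),
      (∀ k, (W k).1 ≤ U) ∧ U ≤ ⨆ k, (W k).1 := by
  classical
  obtain ⟨T, hT⟩ := hU.elim_finite_subcover (fun W : {W : X.affineOpens // W.1 ≤ U} => (W.1.1 : Set X))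
    (fun W => W.1.1.2) fun x hx => by
      obtain ⟨_, ⟨W, hW, rfl⟩, hxW, hWU⟩ := X.isBasis_affineOpens.exists_subset_of_mem_open hx U.2
      exact Set.mem_iUnion.mpr ⟨⟨⟨W, hW⟩, hWU⟩, hxW⟩
  refine ⟨T, inferInstance, fun k => k.1.1, fun k => k.1.2, fun x hx => ?_⟩
  obtain ⟨k, hk, hxk⟩ := Set.mem_iUnion₂.mp (hT hx)
  exact Opens.mem_iSup.mpr ⟨⟨k, hk⟩, hxk⟩

/-- Finite type submodules suffice. -/
theorem Lifts.of_finiteType [CompactSpace X] [QuasiSeparatedSpace X] {K : X.Modules}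
    [K.IsQuasicoherent]
    (h : ∀ (I : X.Modules) (j : I ⟶ K), Mono j → I.IsQuasicoherent → I.IsFiniteType →
      Subsingleton (Coh.HH X I 1)) : Lifts K := by
  classical
  intro M N i g w hS hM t
  have : Mono i := hS.mono_f
  have : Mono (ShortComplex.mk i g w).f := hS.mono_f
  obtain ⟨α, _, U, -, hU⟩ := exists_finite_affine_cover (U := (⊤ : X.Opens)) isCompact_univ
  have : (ShortComplex.mk i g w).X₁.IsQuasicoherent := ‹K.IsQuasicoherent›
  choose s hs using fun a => app_surjective_of_isAffineOpen (ShortComplex.mk i g w) hS (U a).2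
    (res N (le_top : (U a).1 ≤ ⊤) t)
  have hd : ∀ p : α × α, ∃ c : Γ(K, (U p.1).1 ⊓ (U p.2).1),
      i.app _ c = res M inf_le_left (s p.1) - res M inf_le_right (s p.2) := fun p =>
    exists_app_eq_of_exact (ShortComplex.mk i g w) hS.exact _ _ (by
      rw [map_sub, app_res, app_res, hs, hs, res_res, res_res, sub_self])
  choose c hc using hd
  have hcp : ∀ p : α × α, IsCompact (((U p.1).1 ⊓ (U p.2).1 : X.Opens) : Set X) := fun p =>
    QuasiSeparatedSpace.inter_isCompact _ _ (U p.1).1.2 (U p.1).2.isCompact (U p.2).1.2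
      (U p.2).2.isCompact
  choose β hβ W hWle hWcov using fun p => exists_finite_affine_cover (hcp p)
  obtain ⟨I, j, hj, hI, hIf, hmem⟩ := exists_ft_sub K (fun q : Σ p, β p => W q.1 q.2)
    (fun q => res K (hWle q.1 q.2) (c q.1))
  set π := cokernel.π (j ≫ i)
  have hπ0 : ∀ p : α × α, π.app _ (i.app _ (c p)) = 0 := by
    intro p
    refine eq_of_res _ (fun k => (W p k).1) (hWle p) (hWcov p) fun k => ?_
    obtain ⟨y, hy⟩ := hmem ⟨p, k⟩
    rw [res_zero, ← app_res, ← app_res, show res K (hWle p k) (c p) = j.app _ y from hy.symm]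
    exact congr((Scheme.Modules.Hom.app $(cokernel.condition (j ≫ i)) (W p k).1) y)
  obtain ⟨t₁, ht₁⟩ := exists_glue (cokernel (j ≫ i)) (fun a => (U a).1) (fun a => le_top) hU
    (fun a => π.app _ (s a)) fun a b => by
      rw [← app_res, ← app_res, ← sub_eq_zero, ← map_sub, ← hc (a, b)]
      exact hπ0 (a, b)
  let g₁ : cokernel (j ≫ i) ⟶ N := cokernel.desc _ g (by rw [Category.assoc, w, comp_zero])
  have hg₁ : π ≫ g₁ = g := cokernel.π_desc _ _ _
  have hS₂ : (ShortComplex.mk (j ≫ i) π (cokernel.condition _)).ShortExact :=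
    { exact := ShortComplex.exact_of_g_is_cokernel _ (cokernelIsCokernel _)
      mono_f := (inferInstance : Mono (j ≫ i))
      epi_g := (inferInstance : Epi (cokernel.π (j ≫ i))) }
  obtain ⟨m, hm⟩ := Lifts.of_subsingleton_H1 (h I j hj hI hIf) _ _ _ hS₂ hM t₁
  refine ⟨m, eq_of_res _ (fun a => (U a).1) (fun a => le_top) hU fun a => ?_⟩
  refine (congrArg (fun z => res N _ z) ?_).trans ((app_res g₁ _ t₁).symm.trans
    ((congrArg (fun z => g₁.app _ z) (ht₁ a)).trans (Eq.trans ?_ (hs a))))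
  · rw [← hm]
    exact congr((Scheme.Modules.Hom.app $(hg₁.symm) ⊤) m)
  · exact congr((Scheme.Modules.Hom.app $hg₁ (U a).1) (s a))

end Groth.Agent.Serre69
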