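import Groth.Agent.Coh69.Grothendieck
import Groth.Agent.Coh69.RpushQCoh
import Groth.Agent.TopCoh49.Compare
import Groth.Agent.Coh69.OpenSub

set_option autoImplicit false
set_option backward.isDefEq.respectTransparency.types false

/-! Vanishing higher direct images force vanishing cohomology over affine opens of the base. -/

noncomputable section

universe u

open CategoryTheory CategoryTheory.Limits AlgebraicGeometry TopologicalSpace Opposite CategoryTheory.Abelian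
open Groth.Agent.Coh69

namespace Groth.Agent.Serre69

variable {X S : Scheme.{u}} (f : X ⟶ S)

theorem subsingleton_HE_flRes [QuasiCompact f] [QuasiSeparated f] (R : FlRes X)
    [(R.Z 0).IsQuasicoherent] (p : ℕ)
    (h : IsZero ((Coh.RpushAb f (p + 1)).obj (Coh.toAb (R.Z 0)))) {V : S.Opens} (hV : IsAffineOpen V) :
    Subsingleton (HE (Coh.toAb (R.Z 0)) (p + 1) (f ⁻¹ᵁ V)) := by
  have : IsAffine V.toScheme := hV
  have : QuasiSeparatedSpace (f ⁻¹ᵁ V).toScheme := quasiSeparatedSpace_of_quasiSeparated (f ∣_ V)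
  have hc := f.isCompact_preimage hV.isCompact
  refine subsingleton_of_forall_eq 0 fun c => ?_
  obtain ⟨s, rfl⟩ := R.secExt_surjective (f ⁻¹ᵁ V) (p + 1) c
  rw [R.secExt_eq_zero_iff]
  let I : Ideal Γ(S, V) :=
    { carrier := {a | ∃ t, (R.π p).app (f ⁻¹ᵁ V) t = f.app V a • s}
      add_mem' := fun {a b} ⟨x, hx⟩ ⟨y, hy⟩ => ⟨x + y, by rw [map_add, map_add, hx, hy, add_smul]⟩
      zero_mem' := ⟨0, by rw [map_zero, map_zero, zero_smul]⟩
      smul_mem' := fun c a ⟨x, hx⟩ => ⟨f.app V c • x, by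
        rw [Scheme.Modules.Hom.app_smul, hx, smul_eq_mul, map_mul, mul_smul]⟩ }
  have key : ∀ y : V, ∃ a : Γ(S, V), (y : S) ∈ S.basicOpen a ∧ a ∈ I.radical := by
    intro y
    obtain ⟨W, hW, hyW, h0⟩ := TopCoh49.locally_zero_of_isZero_sheafify
      (TopCoh49.hPre f.base (Coh.toAb (R.Z 0)) (p + 1))
      (IsZero.of_iso h (TopCoh49.RpushIso f.base (Coh.toAb (R.Z 0)) (p + 1)).symm) V
      (R.secExt (f ⁻¹ᵁ V) (p + 1) s) y.1 y.2
    obtain ⟨a, ha, hya⟩ := hV.exists_basicOpen_le ⟨y.1, hyW⟩ y.2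
    have h1 : R.secExt (f ⁻¹ᵁ W) (p + 1) (QC70.res _ (f.preimage_mono hW) s) = 0 :=
      (R.secExt_res (f.preimage_mono hW) (p + 1) s).symm.trans h0
    obtain ⟨t, ht⟩ := (R.secExt_eq_zero_iff _ _ _).1 h1
    have hB : f ⁻¹ᵁ S.basicOpen a = X.basicOpen (f.app V a) := Scheme.preimage_basicOpen f a
    obtain ⟨k, t', ht'⟩ := (R.loc_cycles_within (f ⁻¹ᵁ V) hc (f.app V a) p).1 s
      ⟨QC70.res _ (hB.ge.trans (f.preimage_mono ha)) t, by
        rw [QC70.app_res, ht, QC70.res_res]⟩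
    refine ⟨a, hya, k, t', ht'.trans ?_⟩
    rw [map_pow]
  choose g hpg hg using key
  have hspan : Ideal.span (Set.range g) = ⊤ :=
    (hV.iSup_basicOpen_eq_self_iff (s := Set.range g)).mp <| le_antisymm
      (iSup_le fun r => S.basicOpen_le _)
      fun q hq => Opens.mem_iSup.mpr ⟨⟨g ⟨q, hq⟩, ⟨q, hq⟩, rfl⟩, hpg ⟨q, hq⟩⟩
  have hI : I = ⊤ := by
    rw [← Ideal.radical_eq_top]
    refine top_le_iff.mp (hspan ▸ Ideal.span_le.mpr ?_)
    rintro _ ⟨q, rfl⟩
    exact hg q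
  obtain ⟨t, ht⟩ : (1 : Γ(S, V)) ∈ I := hI ▸ Submodule.mem_top
  exact ⟨t, by rw [ht, map_one, one_smul]⟩

lemma subsingleton_ext_of_iso {A : Type*} [Category A] [Abelian A] [HasExt.{u} A] {Z P Q : A} {n : ℕ}
    (e : P ≅ Q) [Subsingleton (Ext.{u} Z P n)] : Subsingleton (Ext.{u} Z Q n) :=
  subsingleton_of_forall_eq 0 fun x => by
    rw [← Ext.comp_mk₀_id x, ← e.inv_hom_id, ← Ext.mk₀_comp_mk₀, ← Ext.comp_assoc_of_second_deg_zero,
      Subsingleton.elim (x.comp (Ext.mk₀ e.inv) (add_zero n)) 0, Ext.zero_comp]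

/-- Cohomology over the preimage of an affine open vanishes when the higher direct image does. -/
theorem subsingleton_HE_preimage [QuasiCompact f] [QuasiSeparated f] (M : X.Modules)
    [M.IsQuasicoherent] (p : ℕ) (h : IsZero ((Coh.RpushAb f (p + 1)).obj (Coh.toAb M)))
    {V : S.Opens} (hV : IsAffineOpen V) :
    Subsingleton (HE (Coh.toAb M) (p + 1) (f ⁻¹ᵁ V)) := by
  have R : InjectiveResolution M := (inferInstance : HasInjectiveResolution M).out.some
  let e : M ≅ (flResOfInj R).Z 0 :=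
    IsLimit.conePointUniqueUpToIso R.isLimitKernelFork (limit.isLimit _)
  have : ((flResOfInj R).Z 0).IsQuasicoherent := QC70.isQuasicoherent_of_iso e ‹_›
  let e' : Coh.toAb M ≅ Coh.toAb ((flResOfInj R).Z 0) :=
    (SheafOfModules.toSheaf X.ringCatSheaf).mapIso e
  have := subsingleton_HE_flRes f (flResOfInj R) p (h.of_iso ((Coh.RpushAb f (p + 1)).mapIso e').symm) hV
  exact subsingleton_ext_of_iso e'.symm

end Groth.Agent.Serre69
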