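import Groth.Agent.Serre69.AcyclicGen
import Groth.Agent.QCqs72.Basic
import Mathlib.AlgebraicGeometry.QuasiAffine
import Mathlib.AlgebraicGeometry.Morphisms.Separated

set_option autoImplicit false
set_option backward.isDefEq.respectTransparency.types false

/-! Acyclic quasi-affine schemes are affine. -/

noncomputable section

universe u

open CategoryTheory CategoryTheory.Limits AlgebraicGeometry TopologicalSpace Opposite

namespace Groth.Agent.Serre69

open QC70

variable {X : Scheme.{u}}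

/-- A quasi-affine scheme whose structure sheaf is acyclic is affine. -/
theorem isAffine_of_isQuasiAffine [X.IsQuasiAffine] (h : Acyclic (unitMod X)) : IsAffine X := by
  classical
  obtain ⟨t, ht⟩ := isCompact_univ.elim_finite_subcover
    (fun r : {r : Γ(X, ⊤) // IsAffineOpen (X.basicOpen r)} => (X.basicOpen r.1 : Set X))
    (fun r => (X.basicOpen r.1).2) fun x _ => by
      obtain ⟨_, ⟨r, hr, rfl⟩, hxr, -⟩ := Opens.isBasis_iff_nbhd.mp
        (Scheme.IsQuasiAffine.isBasis_basicOpen X) (show x ∈ (⊤ : X.Opens) from trivial)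
      exact Set.mem_iUnion.mpr ⟨⟨r, hr⟩, hxr⟩
  let U : t → X.Opens := fun r => X.basicOpen r.1.1
  have hcov : ⨆ r, U r = ⊤ := top_le_iff.mp fun x hx => by
    obtain ⟨r, hr, hxr⟩ := Set.mem_iUnion₂.mp (ht (Set.mem_univ x))
    exact Opens.mem_iSup.mpr ⟨⟨r, hr⟩, hxr⟩
  have hU : ∀ (n : ℕ) (i : Fin (n + 1) → t), IsAffineOpen (Coh69.cOpen U i) := fun n i => by
    rw [Coh69.cOpen_eq_iInf]
    exact IsAffineOpen.iInf fun a => (i a).1.2
  refine isAffine_of_generators U hcov hU fun M hM => ?_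
  refine ⟨Γ(M, ⊤), fun _ => unitMod X, Sigma.desc fun s => unitHom s, ?_, fun _ => ⟨inferInstance, h⟩⟩
  refine Serre71.epi_of_app_surjective _ U hcov (fun r => r.1.2)
    (fun r => isLocAt_of_isQuasicoherent M r.1.2) fun r s => ?_
  obtain ⟨n, v, hv⟩ := QCqs72.exists_of_isQuasiSeparated (M := M) (U := ⊤)
    (by rw [Opens.coe_top]; exact isCompact_univ) (by rw [Opens.coe_top]; exact isQuasiSeparated_univ)
    r.1.1 s
  have hu : IsUnit (resO X (X.basicOpen_le r.1.1) r.1.1 ^ n) :=
    (RingedSpace.isUnit_res_basicOpen _ r.1.1).pow n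
  obtain ⟨c, hc⟩ := hu.exists_left_inv
  refine ⟨(Sigma.ι (fun _ : Γ(M, ⊤) => unitMod X) v).app (U r) (toUnit c), ?_⟩
  rw [← ConcreteCategory.comp_apply, ← Scheme.Modules.Hom.comp_app, Sigma.ι_desc]
  refine (unitHom_app (N := M) v (U r) c).trans ?_
  show c • res M _ v = s
  rw [hv, smul_smul, hc, one_smul]

end Groth.Agent.Serre69
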