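import Groth.Agent.Serre69.AcyclicGen
import Groth.Agent.Amp73.GlobGen
import Groth.Agent.Amp73.Powers
import Groth.Agent.Ample57.Separated
import Groth.Agent.Inv57.OfTensor

set_option autoImplicit false
set_option backward.isDefEq.respectTransparency.types false

/-! A scheme is affine when negative powers of an ample module are acyclic. -/

noncomputable section

universe u

open CategoryTheory CategoryTheory.Limits AlgebraicGeometry TopologicalSpace Opposite

namespace Groth.Agent.Serre69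

open Groth.Agent.Amp73

variable {X : Scheme.{u}}

/-- Spanning passes to basic opens. -/
lemma spanAt_basicOpen {F : X.Modules} (hF : Coh.IsQCoh F) {U : X.Opens} (hU : IsAffineOpen U)
    (h : SpanAt F U) (g : Γ(X, U)) : SpanAt F (X.basicOpen g) := by
  refine eq_top_iff.2 fun z _ => ?_
  have : F.IsQuasicoherent := hF
  obtain ⟨k, w, hw⟩ := (QC70.isLocAt_of_isQuasicoherent F hU).exists_of g z
  have hu : IsUnit (QC70.resO X (X.basicOpen_le g) g ^ k) :=
    (RingedSpace.isUnit_res_basicOpen _ g).pow k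
  obtain ⟨c, hc⟩ := hu.exists_left_inv
  have hz : z = c • QC70.res F (X.basicOpen_le g) w := by rw [hw, smul_smul, hc, one_smul]
  rw [hz]
  refine Submodule.smul_mem _ _ (Submodule.span_mono ?_
    (SubMod72.res_mem_span (X.basicOpen_le g) (h.ge (Submodule.mem_top (x := w)))))
  rintro _ ⟨_, ⟨t, rfl⟩, rfl⟩
  exact ⟨t, (QC70.res_res _ _ _).symm⟩

/-- `F ⊗ L^m ⊗ L'^m ≅ F`. -/
def cancelTwist (F : X.Modules) {L L' : X.Modules}
    (e : CohB1.tensorMod L L' ≅ Coh.structureModule X) (m : ℕ) :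
    CohB1.tensorMod (CohB1.tensorMod F (CohB1.tensorPow L m)) (CohB1.tensorPow L' m) ≅ F :=
  EGA73.tensAssoc' F (CohB1.tensorPow L m) (CohB1.tensorPow L' m) ≪≫
    EGA73.tensIso (Iso.refl F) ((powTens L L' m).symm ≪≫ powIso e m ≪≫ powUnit X m) ≪≫
    EGA73.tensUnitRight F

theorem isAffine_of_ample_negative {L L' : X.Modules} (hL : CohB1.IsAmple L)
    (hinv : Nonempty (CohB1.tensorMod L L' ≅ Coh.structureModule X)) (n₀ : ℕ)
    (h : ∀ n : ℕ, n₀ ≤ n → Acyclic (CohB1.tensorPow L' n)) : IsAffine X := by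
  classical
  obtain ⟨e⟩ := hinv
  have := hL.2.1
  have := Ample57.isSeparated_of_isAmple hL
  have hL' : PicF.IsInvertible L' :=
    Inv57.isInvertible_of_tensorMod_iso ((EGA73.tensComm L' L) ≪≫ e)
  obtain ⟨κ, _, W, -, hW⟩ := exists_finite_affine_cover (U := (⊤ : X.Opens)) isCompact_univ
  have hcov : ⨆ k, (W k).1 = ⊤ := top_le_iff.mp hW
  have hU : ∀ (n : ℕ) (i : Fin (n + 1) → κ), IsAffineOpen (Coh69.cOpen (fun k => (W k).1) i) := fun n i => by
    rw [Coh69.cOpen_eq_iInf]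
    exact IsAffineOpen.iInf fun a => (W (i a)).2
  have hq : ∀ n, Coh.IsQCoh (CohB1.tensorPow L' n) := fun n => by
    induction n with
    | zero => exact Div89.isQCoh_structureModule _
    | succ n ih => exact isQCoh_tensorMod ih (Mero90.isQCoh_of_isInvertible hL')
  refine isAffine_of_generators (fun k => (W k).1) hcov hU fun M hM => ?_
  let ι : Type u := Σ (k : κ), Γ(M, (W k).1)
  choose G j hj hG hGf w hw using fun q : ι => exists_ft_sub M (fun _ : PUnit.{u+1} => W q.1) (fun _ => q.2)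
  choose n₁ hn₁ using fun q : ι => eventually_spanAt_twist hL (⟨hG q, hGf q⟩ : Coh.IsCoh (G q))
  let m : ι → ℕ := fun q => max n₀ (n₁ q)
  let T : ι → Type u := fun q => Γ(CohB1.tensorMod (G q) (CohB1.tensorPow L (m q)), ⊤)
  let φ : ∀ (q : ι), T q → (CohB1.tensorPow L' (m q) ⟶ M) := fun q t =>
    tmLeft t (CohB1.tensorPow L' (m q)) ≫ (cancelTwist (G q) e (m q)).hom ≫ j q
  refine ⟨Σ q, T q, fun p => CohB1.tensorPow L' (m p.1), Sigma.desc fun p => φ p.1 p.2, ?_,
    fun p => ⟨hq _, h _ (le_max_left _ _)⟩⟩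
  let P : (∐ fun p : Σ q, T q => CohB1.tensorPow L' (m p.1)) ⟶ M := Sigma.desc fun p => φ p.1 p.2
  have hfac : ∀ q : ι, ∃ ρ : (∐ fun t : T q => CohB1.tensorPow L' (m q)) ⟶ G q, Epi ρ ∧
      ∃ σ : (∐ fun t : T q => CohB1.tensorPow L' (m q)) ⟶ (∐ fun p : Σ q, T q => CohB1.tensorPow L' (m p.1)),
        σ ≫ P = ρ ≫ j q := by
    intro q
    refine ⟨Sigma.desc fun t => tmLeft t (CohB1.tensorPow L' (m q)) ≫ (cancelTwist (G q) e (m q)).hom, ?_,
      Sigma.desc fun t => Sigma.ι (fun p : Σ q, T q => CohB1.tensorPow L' (m p.1)) ⟨q, t⟩, ?_⟩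
    · refine epi_desc_of_span_maps (hG q) _ _ fun x => ?_
      obtain ⟨U, hxU, hUa, hsp⟩ := hn₁ q (m q) (le_max_right _ _) x
      obtain ⟨V, hxV, -, f, hf⟩ := Mero90.exists_affine_frame hL' x U hxU
      obtain ⟨g, hg, hxg⟩ := hUa.exists_basicOpen_le ⟨x, hxV⟩ hxU
      have hfr : Var76.LineBundle.IsFrame (CohB1.tensorPow L' (m q)) (X.basicOpen g)
          (QC70.res _ hg (epow f (m q))) := fun V' hV' => by
        show Function.Bijective fun a : Γ(X, V') => a • QC70.res _ hV' (QC70.res _ hg (epow f (m q)))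
        rw [QC70.res_res]
        exact isFrame_epow hf (m q) V' (hV'.trans hg)
      refine ⟨X.basicOpen g, fun _ => QC70.res _ hg (epow f (m q)), hxg, hUa.basicOpen g, ?_⟩
      have hs := span_image_iso (cancelTwist (G q) e (m q)).hom
        (span_image_tm hfr (spanAt_basicOpen (isQCoh_tensorMod (hG q)
          (by
            have : ∀ n, Coh.IsQCoh (CohB1.tensorPow L n) := fun n => by
              induction n with
              | zero => exact Div89.isQCoh_structureModule _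
              | succ n ih => exact isQCoh_tensorMod ih (Mero90.isQCoh_of_isInvertible hL.1)
            exact this _)) hUa hsp g))
      refine eq_top_iff.2 (hs.ge.trans (Submodule.span_mono ?_))
      rintro _ ⟨_, ⟨_, ⟨t, rfl⟩, rfl⟩, rfl⟩
      exact ⟨t, rfl⟩
    · refine Sigma.hom_ext _ _ fun t => ?_
      rw [Sigma.ι_desc_assoc, Sigma.ι_desc_assoc, Sigma.ι_desc]
      simp only [φ, Category.assoc]
  refine QC70.epi_of_surjective_stalkMapM P fun x z => ?_
  obtain ⟨k, hk⟩ := Opens.mem_iSup.mp (hW (show x ∈ (⊤ : X.Opens) from trivial))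
  obtain ⟨U, hxU, s, rfl⟩ := QC70.germM_exist z
  obtain ⟨g, hgU, hxg⟩ := (W k).2.exists_basicOpen_le ⟨x, hxU⟩ hk
  have := hM
  obtain ⟨l, v, hv⟩ := (QC70.isLocAt_of_isQuasicoherent M (W k).2).exists_of g (QC70.res M hgU s)
  have hy := hw ⟨k, v⟩ PUnit.unit
  let y := w ⟨k, v⟩ PUnit.unit
  obtain ⟨ρ, hρ, σ, hσ⟩ := hfac ⟨k, v⟩
  have hu : IsUnit (QC70.resO X (X.basicOpen_le g) g ^ l) := (RingedSpace.isUnit_res_basicOpen _ g).pow l
  obtain ⟨c, hc⟩ := hu.exists_left_inv
  obtain ⟨r, hr⟩ := QC70.surjective_stalkMapM_of_epi ρ x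
    (QC70.germM (G ⟨k, v⟩) (X.basicOpen g) x hxg (c • QC70.res (G ⟨k, v⟩) (X.basicOpen_le g) y))
  refine ⟨QC70.stalkMapM σ x r, ?_⟩
  rw [← QC70.stalkMapM_comp, hσ, QC70.stalkMapM_comp, hr, QC70.stalkMapM_germ,
    Scheme.Modules.Hom.app_smul, QC70.app_res, hy, hv, smul_smul, hc, one_smul, QC70.germM_res]

end Groth.Agent.Serre69
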