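import Groth.Agent.Serre69.Criterion
import Groth.Agent.QC70.CoprodStalk
import Groth.Agent.CechComp71.Scheme
import Groth.Agent.Coh69.QcInd
import Groth.Agent.Coh69.ExtShift

set_option autoImplicit false
set_option backward.isDefEq.respectTransparency.types false

/-!
If quasi-coherent modules are quotients of sums of acyclic quasi-coherent modules and there is a
finite covering with affine intersections, all quasi-coherent modules are acyclic.
-/

noncomputable section

universe u

open CategoryTheory CategoryTheory.Limits AlgebraicGeometry TopologicalSpace Opposite CategoryTheory.Abelian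

namespace Groth.Agent.Serre69

open QC70
open Groth.Agent.Coh69 (cOpen Cochain cd cmap CechAcyclic HE hhEquiv)

variable {X : Scheme.{u}}

/-- All higher cohomology vanishes. -/
def Acyclic (M : X.Modules) : Prop := ∀ p : ℕ, Subsingleton (Coh.HH X M (p + 1))

section Coproduct

variable {κ : Type u} (M : κ → X.Modules)

/-- The projector to finitely many summands. -/
def proj (J : Finset κ) : (∐ M) ⟶ ∐ M := ∑ j ∈ J, coprojection M j ≫ Sigma.ι M j

lemma proj_comp_proj {J J' : Finset κ} (h : J' ⊆ J) : proj M J' ≫ proj M J = proj M J' := by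
  classical
  rw [proj, proj, Preadditive.sum_comp]
  refine Finset.sum_congr rfl fun i hi => ?_
  rw [Preadditive.comp_sum, Finset.sum_eq_single i]
  · rw [Category.assoc, reassoc_of% (ι_coprojection_self M i)]
  · intro j _ hji
    rw [Category.assoc, reassoc_of% (ι_coprojection_ne M hji.symm), zero_comp, comp_zero]
  · intro hni
    exact absurd (h hi) hni

lemma app_sum {A B : X.Modules} {γ : Type*} (J : Finset γ) (φ : γ → (A ⟶ B)) (W : X.Opens)
    (s : Γ(A, W)) : (∑ j ∈ J, φ j).app W s = ∑ j ∈ J, (φ j).app W s := by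
  let Φ : (A ⟶ B) →+ Γ(B, W) :=
    { toFun := fun ψ => ψ.app W s
      map_zero' := rfl
      map_add' := fun _ _ => rfl }
  exact map_sum Φ φ J

lemma exists_finset_section {W : X.Opens} (hW : IsCompact (W : Set X)) (s : Γ(∐ M, W)) :
    ∃ J : Finset κ, ∀ J' : Finset κ, J ⊆ J' → (proj M J').app W s = s := by
  classical
  have hloc : ∀ x : W, ∃ (V : X.Opens) (hV : V ≤ W) (J : Finset κ), (x : X) ∈ V ∧
      res (∐ M) hV ((proj M J).app W s) = res (∐ M) hV s := by
    intro x
    obtain ⟨J, hJ⟩ := exists_finset_stalk M x.1 (germM (∐ M) W x.1 x.2 s)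
    rw [stalkMapM_germ] at hJ
    have h0 : germM (∐ M) W x.1 x.2 ((proj M J).app W s - s) = 0 :=
      ((∐ M).presheaf.germ W x.1 x.2).hom.map_sub _ _ |>.trans (sub_eq_zero.mpr hJ.symm)
    obtain ⟨V, hV, hxV, h0'⟩ := germM_eq_zero h0
    refine ⟨V, hV, J, hxV, ?_⟩
    rw [← sub_eq_zero, ← res_sub]
    exact h0'
  choose V hV J hxV hJ using hloc
  obtain ⟨t, ht⟩ := hW.elim_finite_subcover (fun x : W => (V x : Set X)) (fun x => (V x).2)
    fun x hx => Set.mem_iUnion.mpr ⟨⟨x, hx⟩, hxV ⟨x, hx⟩⟩
  refine ⟨t.biUnion J, fun J' hJ' => eq_of_res _ (fun x : t => V x.1) (fun x => hV x.1) (fun x hx => ?_)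
    fun x => ?_⟩
  · obtain ⟨y, hy, hxy⟩ := Set.mem_iUnion₂.mp (ht hx)
    exact Opens.mem_iSup.mpr ⟨⟨y, hy⟩, hxy⟩
  have hsub : J x.1 ⊆ J' := (Finset.subset_biUnion_of_mem J x.2).trans hJ'
  calc res (∐ M) (hV x.1) ((proj M J').app W s)
      = (proj M J').app _ (res (∐ M) (hV x.1) s) := (app_res _ _ _).symm
    _ = (proj M J').app _ ((proj M (J x.1)).app _ (res (∐ M) (hV x.1) s)) := by
        rw [app_res (proj M (J x.1)), hJ]
    _ = (proj M (J x.1)).app _ (res (∐ M) (hV x.1) s) :=
        congr((Scheme.Modules.Hom.app $(proj_comp_proj M hsub) _) (res (∐ M) (hV x.1) s))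
    _ = res (∐ M) (hV x.1) s := by rw [app_res, hJ]

variable {ι : Type u} [Finite ι] (U : ι → X.Opens)

theorem cechAcyclic_coproduct (hU : ∀ (n : ℕ) (i : Fin (n + 1) → ι), IsCompact (cOpen U i : Set X))
    (h : ∀ k, CechAcyclic U (M k).presheaf) : CechAcyclic U (∐ M).presheaf := by
  classical
  intro n s hs
  have : Fintype (Fin (n + 1 + 1) → ι) := Fintype.ofFinite _
  choose J hJ using fun i : Fin (n + 1 + 1) → ι => exists_finset_section M (hU (n + 1) i) (s i)
  let J₀ := Finset.univ.biUnion J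
  let T := fun {A B : X.Modules} (φ : A ⟶ B) => φ.mapPresheaf
  have hk : ∀ k, cd U (M k).presheaf (n + 1) (cmap U (T (coprojection M k)) (n + 1) s) = 0 := fun k => by
    exact (Coh69.cd_cmap U (T (coprojection M k)) (n + 1) s).trans ((congrArg _ hs).trans (map_zero _))
  choose t ht using fun k => h k n _ (hk k)
  refine ⟨∑ k ∈ J₀, cmap U (T (Sigma.ι M k)) n (t k), ?_⟩
  rw [map_sum]
  funext i
  rw [Finset.sum_apply]
  refine Eq.trans (Finset.sum_congr rfl fun k _ => ?_)
    ((app_sum J₀ (fun k => coprojection M k ≫ Sigma.ι M k) _ (s i)).symm.trans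
      (hJ i J₀ (Finset.subset_biUnion_of_mem J (Finset.mem_univ i))))
  refine (congrFun ((Coh69.cd_cmap U (T (Sigma.ι M k)) n (t k)).trans
    (congrArg (cmap U (T (Sigma.ι M k)) (n + 1)) (ht k))) i).trans ?_
  rfl

end Coproduct

section Vanishing

variable [CompactSpace X] [QuasiSeparatedSpace X] {ι : Type u} [Finite ι] (U : ι → X.Opens)
  (hcov : ⨆ i, U i = ⊤) (hU : ∀ (n : ℕ) (i : Fin (n + 1) → ι), IsAffineOpen (cOpen U i))

omit [CompactSpace X] [QuasiSeparatedSpace X] [Finite ι] in
include hcov hU in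
lemma acyclic_iff_cechAcyclic (M : X.Modules) [M.IsQuasicoherent] :
    Acyclic M ↔ CechAcyclic U M.presheaf := by
  have h := fun p => CechComp71.cechHEquivHH hcov (CechComp71.acyclicOn_of_isAffineOpen U M hU) p
  constructor
  · intro hM
    refine Coh69.cechAcyclic_of_isZero_cechH U M.presheaf fun p hp => ?_
    obtain ⟨q, rfl⟩ : ∃ q, p = q + 1 := ⟨p - 1, by omega⟩
    have := hM q
    have : Subsingleton (CohB1.cechH U M (q + 1)) := (h (q + 1)).toEquiv.subsingleton
    exact @AddCommGrpCat.isZero_of_subsingleton (CohB1.cechH U M (q + 1)) ‹_›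
  · intro hM p
    have : Subsingleton (CohB1.cechH U M (p + 1)) := AddCommGrpCat.subsingleton_of_isZero
      (Coh69.isZero_cechH_of_acyclic U M.presheaf hM (p + 1) (Nat.succ_pos p))
    exact ((h (p + 1)).symm.toEquiv.subsingleton (α := Coh.HH X M (p + 1)))

omit [CompactSpace X] [QuasiSeparatedSpace X] in
include hcov hU in
lemma acyclic_coproduct {κ : Type u} (G : κ → X.Modules) (hG : ∀ k, (G k).IsQuasicoherent)
    (h : ∀ k, Acyclic (G k)) : Acyclic (∐ G) := by
  have := isQuasicoherent_coproduct G hG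
  refine (acyclic_iff_cechAcyclic U hcov hU _).mpr
    (cechAcyclic_coproduct G U (fun n i => (hU n i).isCompact) fun k => ?_)
  have := hG k
  exact (acyclic_iff_cechAcyclic U hcov hU _).mp (h k)

include hcov hU in
theorem acyclic_of_generators
    (hgen : ∀ M : X.Modules, M.IsQuasicoherent → ∃ (κ : Type u) (G : κ → X.Modules) (p : (∐ G) ⟶ M),
      Epi p ∧ ∀ k, (G k).IsQuasicoherent ∧ Acyclic (G k))
    (M : X.Modules) [M.IsQuasicoherent] : Acyclic M := by
  obtain ⟨d, hd⟩ := Coh69.exists_bound_HE (X := X) ⊤ (by rw [Opens.coe_top]; exact isCompact_univ)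
  suffices H : ∀ (k p : ℕ), d ≤ p + 1 + k → ∀ N : X.Modules, N.IsQuasicoherent →
      Subsingleton (HE (Coh.toAb N) (p + 1) (⊤ : X.Opens)) by
    intro p
    have := H d p (by omega) M ‹_›
    exact (hhEquiv M (p + 1)).toEquiv.subsingleton
  intro k
  induction k with
  | zero => exact fun p hp N hN => hd N hN (p + 1) (by omega)
  | succ k ih =>
    intro p hp N hN
    obtain ⟨κ, G, q, hq, hG⟩ := hgen N hN
    have := isQuasicoherent_coproduct G fun k => (hG k).1
    have hK : (kernel q).IsQuasicoherent := isQuasicoherent_kernel q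
    have hT : (ShortComplex.mk (kernel.ι q) q (kernel.condition q)).ShortExact :=
      { exact := ShortComplex.exact_of_f_is_kernel _ (kernelIsKernel q)
        mono_f := (inferInstance : Mono (kernel.ι q))
        epi_g := hq }
    have := ih (p + 1) (by omega) _ hK
    have h2 : Subsingleton (HE (Coh.toAb (∐ G)) (p + 1) (⊤ : X.Opens)) := by
      have := acyclic_coproduct U hcov hU G (fun k => (hG k).1) (fun k => (hG k).2) p
      exact (hhEquiv (∐ G) (p + 1)).symm.toEquiv.subsingleton
    have : Subsingleton (Ext.{u} (CohCx.freeSheaf (Opens.grothendieckTopology X) (⊤ : X.Opens))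
      (Crv77.abComplex (ShortComplex.mk (kernel.ι q) q (kernel.condition q))).X₁ (p + 1 + 1)) := this
    have : Subsingleton (Ext.{u} (CohCx.freeSheaf (Opens.grothendieckTopology X) (⊤ : X.Opens))
      (Crv77.abComplex (ShortComplex.mk (kernel.ι q) q (kernel.condition q))).X₂ (p + 1)) := h2
    exact Coh69.ext_subsingleton_X₃ (Crv77.abComplex_shortExact hT) _ (p + 1)

include hcov hU in
/-- Generation by acyclic modules forces affineness. -/
theorem isAffine_of_generators
    (hgen : ∀ M : X.Modules, M.IsQuasicoherent → ∃ (κ : Type u) (G : κ → X.Modules) (p : (∐ G) ⟶ M),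
      Epi p ∧ ∀ k, (G k).IsQuasicoherent ∧ Acyclic (G k)) : IsAffine X :=
  isAffine_of_liftsIdeals fun K _ _ hK =>
    have := hK
    Lifts.of_subsingleton_H1 (acyclic_of_generators U hcov hU hgen K 0)

end Vanishing

end Groth.Agent.Serre69
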